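import Cfsg.Agent.LeU.U35.Pres

set_option autoImplicit false
set_option maxRecDepth 100000

namespace Cfsg.Agent.LeU.U35
open Cfsg.Agent.Comp

noncomputable def n0 : Net :=
(Net.cons (nat_lit 0x4030a00410820102950048) (nat_lit 88)
(Net.cons (nat_lit 0x516fa48e500000000000007eb83d918e0) (nat_lit 44)
(Net.cons (nat_lit 0x1094a5000002d12600000022ea90000003987c0) (nat_lit 22)
(Net.cons (nat_lit 0x2800758000740003fe000170004a60014c0000a2) (nat_lit 11)
(Net.cons (nat_lit 0x100200a00c0240140900e02e038010180340380480a) (nat_lit 5)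
(Net.cons (nat_lit 0x20000188210410c010800000000180010620841040) (nat_lit 3)
(Net.cons (nat_lit 0x4040400021200080800000020800000024008410100) (nat_lit 1)
(Net.cons (nat_lit 0x8480821042404909212024049002124048490920240) (nat_lit 1)
(Net.cons (nat_lit 0x424801412005042084001042424840092020a480828) (nat_lit 1)
(Net.cons (nat_lit 0x40000188110420c110c3004380018e00c4088310a2) (nat_lit 3)
(Net.cons (nat_lit 0x1a03c0b8080240540981903e038010180020340480a) (nat_lit 5)
(Net.cons (nat_lit 0xa2c0075d0019b8004d3000174007a7000b7c006a2) (nat_lit 11)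
(Net.cons (nat_lit 0x1a1d7b000001b752d0000020f29100000398690) (nat_lit 22)
(Net.cons (nat_lit 0x516fa48e500000000000007eb83d918e0) (nat_lit 44)
(Net.cons (nat_lit 0x4030a00410820102950048) (nat_lit 88)
Net.nil)))))))))))))))

noncomputable def n1 : Net :=
(Net.cons (nat_lit 0x424b8195080a24a022a88) (nat_lit 88)
(Net.cons (nat_lit 0x418b3bc315200000000000059760e2158) (nat_lit 44)
(Net.cons (nat_lit 0x1cdec9000002510f0000001949ce00000013880) (nat_lit 22)
(Net.cons (nat_lit 0x1140076c001c60005cc001800001f0000e8000394) (nat_lit 11)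
(Net.cons (nat_lit 0x2007c0201e0340600c80900602c0e00a02804005808) (nat_lit 5)
(Net.cons (nat_lit 0x40300010030003082000100010800841004000200c1) (nat_lit 3)
(Net.cons (nat_lit 0x40000101040000809202404008090004008400021) (nat_lit 1)
(Net.cons (nat_lit 0x8490801202484809212424809012124208410900242) (nat_lit 1)
(Net.cons (nat_lit 0x20008094109010400908012104a08410120248410021) (nat_lit 1)
(Net.cons (nat_lit 0x4208441842044200708a0080008010030c4008218c1) (nat_lit 3)
(Net.cons (nat_lit 0x2c07c0381f02202c0181f00602c0c01900205405818) (nat_lit 5)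
(Net.cons (nat_lit 0x9140072d001750002f100129c00234001e8000394) (nat_lit 11)
(Net.cons (nat_lit 0x14dec9000002d1078000001949ce00000013888) (nat_lit 22)
(Net.cons (nat_lit 0x61a91b7315200000000000059760e2158) (nat_lit 44)
(Net.cons (nat_lit 0x424b8195080a24a022a88) (nat_lit 88)
Net.nil)))))))))))))))

noncomputable def n2 : Net :=
(Net.cons (nat_lit 0x5070000401100880000000) (nat_lit 88)
(Net.cons (nat_lit 0x4a4df89aea700000000000ac8ed451688) (nat_lit 44)
(Net.cons (nat_lit 0x165d61000000eaed2000002636220000038e608) (nat_lit 22)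
(Net.cons (nat_lit 0x40004a00013800055c000448003c000197800230) (nat_lit 11)
(Net.cons (nat_lit 0x4048050100220000a81900800c0b80001804008000) (nat_lit 5)
(Net.cons (nat_lit 0x410041880080104600010000084008100400420082) (nat_lit 3)
(Net.cons (nat_lit 0x40000000202400801210400000080124000480020) (nat_lit 1)
(Net.cons (nat_lit 0x8490101042484909212420808082120248490920042) (nat_lit 1)
(Net.cons (nat_lit 0x100a004100212404140292120240080124000480020) (nat_lit 1)
(Net.cons (nat_lit 0xc02882006208020c100200c60883086008608c21082) (nat_lit 3)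
(Net.cons (nat_lit 0x28048048010220780a80603e00c000170180400a804) (nat_lit 5)
(Net.cons (nat_lit 0x9640035f0013a4005540007b80043f001978002a4) (nat_lit 11)
(Net.cons (nat_lit 0x165d61000003fecda000002736260000038e608) (nat_lit 22)
(Net.cons (nat_lit 0x4a4df89aea700000000000ac8ed451688) (nat_lit 44)
(Net.cons (nat_lit 0x5070000401100880000000) (nat_lit 88)
Net.nil)))))))))))))))

noncomputable def n3 : Net :=
(Net.cons (nat_lit 0x9449929792aaca57abd) (nat_lit 88)
(Net.cons (nat_lit 0x4562643693900000000000e3204731f8a) (nat_lit 44)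
(Net.cons (nat_lit 0x3585a00000084b92000001c56500000006b19c) (nat_lit 22)
(Net.cons (nat_lit 0xf080064c001098003aa0013c000408000440004ec) (nat_lit 11)
(Net.cons (nat_lit 0x140780880e03002c0e8080060580e81200a0300401b) (nat_lit 5)
(Net.cons (nat_lit 0x10c118410800001006100610c210000c61083) (nat_lit 3)
(Net.cons (nat_lit 0x200410021200400108212424001080124200010001) (nat_lit 1)
(Net.cons (nat_lit 0x8400920242484809212424848002104248410820042) (nat_lit 1)
(Net.cons (nat_lit 0x100a494101042000900200000249010004000490800) (nat_lit 1)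
(Net.cons (nat_lit 0x8028c31023144388500e10803085084314028450023) (nat_lit 3)
(Net.cons (nat_lit 0x2a0200d01e00a06c0201801a0180501a02c0600d817) (nat_lit 5)
(Net.cons (nat_lit 0x33c00778000f300000d00117c005a60007b4001bc) (nat_lit 11)
(Net.cons (nat_lit 0x87fb800000391c780000029e9e3000000b756a) (nat_lit 22)
(Net.cons (nat_lit 0x2232b4b82e50000000000068a0f91d45d) (nat_lit 44)
(Net.cons (nat_lit 0xf9404c24127981fb47b7) (nat_lit 88)
Net.nil)))))))))))))))

noncomputable def n4 : Net :=
(Net.cons (nat_lit 0xf9404c24127981fb47b7) (nat_lit 88)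
(Net.cons (nat_lit 0x223334b02e500000000000975f06e2ba2) (nat_lit 44)
(Net.cons (nat_lit 0xefd800000277620000000b746800000161b30) (nat_lit 22)
(Net.cons (nat_lit 0x2f800560000540001c8001fa8003b2001208003ac) (nat_lit 11)
(Net.cons (nat_lit 0x340240800600406c090040240080301803404807809) (nat_lit 5)
(Net.cons (nat_lit 0x4210c41041002304218800000006008000010c60000) (nat_lit 3)
(Net.cons (nat_lit 0x200400021242004100200004008010020000000000) (nat_lit 1)
(Net.cons (nat_lit 0x8400920242484809212424848092020040410900242) (nat_lit 1)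
(Net.cons (nat_lit 0x5042484021042084840210404041490021240484921) (nat_lit 1)
(Net.cons (nat_lit 0x80308700430060047188118428420003080308308a3) (nat_lit 3)
(Net.cons (nat_lit 0x3a0780d80e03c00c058100080640b01002c0480b00b) (nat_lit 5)
(Net.cons (nat_lit 0x6880048c0019bc000b000010c002ea0018a40000f) (nat_lit 11)
(Net.cons (nat_lit 0xb18d2000000668eb000002eb19c0000038a1ad) (nat_lit 22)
(Net.cons (nat_lit 0x446a6436d39000000000001cdfb8ce075) (nat_lit 44)
(Net.cons (nat_lit 0x9449929792aaca57abd) (nat_lit 88)
Net.nil)))))))))))))))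

noncomputable def n5 : Net :=
(Net.cons (nat_lit 0x436322e4a5294a99184888) (nat_lit 88)
(Net.cons (nat_lit 0x5f5e1ec5c3200000000000d36400ea060) (nat_lit 44)
(Net.cons (nat_lit 0x16ee4e000000a51dc000001389080000003f548) (nat_lit 22)
(Net.cons (nat_lit 0x44000088001f10001b20001c000188000ca00044c) (nat_lit 11)
(Net.cons (nat_lit 0x40000c0000140380981f0340580000201400805008) (nat_lit 5)
(Net.cons (nat_lit 0x6200410c210220c000020000042080200400801883) (nat_lit 3)
(Net.cons (nat_lit 0x8000000200004000010400040082020000000020) (nat_lit 1)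
(Net.cons (nat_lit 0x8410820042404108200020800080104048490821242) (nat_lit 1)
(Net.cons (nat_lit 0x1000404028210480808202404a48492121000084028) (nat_lit 1)
(Net.cons (nat_lit 0x620440843040184508a20060040084208238c218c2) (nat_lit 3)
(Net.cons (nat_lit 0x20010000380600901c0340480300003007c0b006) (nat_lit 5)
(Net.cons (nat_lit 0x5440068a0009280017b0001d0002ce0006a000513) (nat_lit 11)
(Net.cons (nat_lit 0x19f3e5000000d4a260000037a9a400000154edc) (nat_lit 22)
(Net.cons (nat_lit 0xc161d25c5500000000000d77400ea060) (nat_lit 44)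
(Net.cons (nat_lit 0x436322e4a5294a99184888) (nat_lit 88)
Net.nil)))))))))))))))

noncomputable def T : List Net := [n0, n1, n2, n3, n4, n5]

theorem ok : TOK 175 T := TOK_of_ok (by decide +kernel)

def E : List (List Nat × List Nat) :=
  []

theorem sat : Sat (sig T) R :=
  sat_of_relsP ok (by norm_num) (show relsP (nat_lit 175) (nat_lit 8) (nat_lit 0) (nat_lit 8) T R = true by decide +kernel)

theorem eqs : ∀ e ∈ E, ev (sig T) e.1 = ev (sig T) e.2 := eqs_nil _

def lowW1 : List (List Nat) := [[0],
   [1],
   [2],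
   [3],
   [4]]

def lowW2 : List (List Nat) := [[0],
   [1],
   [2]]

def lowW3 : List (List Nat) := [[0],
   [1]]

def lowW4 : List (List Nat) := [[0]]

theorem low_4 : 2 ≤ Nat.card (genW (sig T) lowW4) :=
  chain_step (W' := []) (b := 10) (n := 2) (m := 1) ok (le_of_subOK eqs (show subOK lowW4 [] E = true by decide +kernel)) (by decide +kernel)
    (le_ncard_of_ivl (a := 9) ok (by norm_num) (show Nat.beq (grow T lowW4 [0] (pt (nat_lit 10))) (ivl (nat_lit 9) (nat_lit 2)) = true by decide +kernel))
    (chain_base ok [])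

theorem low_3 : 10 ≤ Nat.card (genW (sig T) lowW3) :=
  chain_step (W' := lowW4) (b := 5) (n := 5) (m := 2) ok (le_of_subOK eqs (show subOK lowW3 lowW4 E = true by decide +kernel)) (by decide +kernel)
    (le_ncard_of_orbGe ok (by norm_num) (show orbGe (nat_lit 175) (nat_lit 8) T lowW3 [1, 0, 1, 0] (nat_lit 5) (nat_lit 5) = true by decide +kernel))
    low_4

theorem low_2 : 60 ≤ Nat.card (genW (sig T) lowW2) :=
  chain_step (W' := lowW3) (b := 13) (n := 6) (m := 10) ok (le_of_subOK eqs (show subOK lowW2 lowW3 E = true by decide +kernel)) (by decide +kernel)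
    (le_ncard_of_orbGe ok (by norm_num) (show orbGe (nat_lit 175) (nat_lit 8) T lowW2 [2, 0, 1, 0, 1] (nat_lit 13) (nat_lit 6) = true by decide +kernel))
    low_3

theorem low_1 : 720 ≤ Nat.card (genW (sig T) lowW1) :=
  chain_step (W' := lowW2) (b := 1) (n := 12) (m := 60) ok (le_of_subOK eqs (show subOK lowW1 lowW2 E = true by decide +kernel)) (by decide +kernel)
    (le_ncard_of_ivl (a := 1) ok (by norm_num) (show Nat.beq (grow T lowW1 [3, 0, 1, 3, 0, 2] (pt (nat_lit 1))) (ivl (nat_lit 1) (nat_lit 12)) = true by decide +kernel))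
    low_2

theorem low : 126000 ≤ Nat.card (genW (sig T) (letters 6)) :=
  chain_step (W' := lowW1) (b := 0) (n := 175) (m := 720) ok (le_of_subOK eqs (show subOK (letters 6) lowW1 E = true by decide +kernel)) (by decide +kernel)
    (le_ncard_of_ivl (a := 0) ok (by norm_num) (show Nat.beq (grow T (letters 6) [5, 0, 1, 2, 3, 0, 1, 2, 5, 3, 1, 3, 0] (pt (nat_lit 0))) (ivl (nat_lit 0) (nat_lit 175)) = true by decide +kernel))
    low_1


end Cfsg.Agent.LeU.U35
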