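import Cfsg.Agent.LeU.U35.Up
import Cfsg.Agent.LeU.U35.Nets

set_option autoImplicit false
set_option maxRecDepth 100000

namespace Cfsg.Agent.LeU.U35
open Cfsg.Agent.Comp

def W0 : List (List Nat) := [[0],
[1],
[2],
[3],
[4]]

noncomputable def phi : G →* Equiv.Perm ℕ := (pres.rep ok sat).choose

theorem rep : Rep s 6 175 T phi := (pres.rep ok sat).choose_spec

theorem trans : ∀ i < 175, ∃ g, phi g 0 = i :=
  rep.trans (sch := [5, 0, 1, 2, 3, 0, 1, 2, 5, 3, 1, 3, 0]) (by decide +kernel)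

theorem stab : (genW s W0).index = 175 ∧ ∀ g, g ∈ genW s W0 ↔ phi g 0 = 0 :=
  rep.stab_eq (by decide +kernel) (by norm_num) trans (by decide +kernel) (Top.index _ s pres.sat)

theorem orb1 : MulAction.orbit (genW (sig T) W0) 1 = Set.Ico 1 (1 + 12) ∧
    (MulAction.orbit (genW (sig T) W0) 1).ncard = 12 :=
  orbit_ivl (sch := [3, 0, 1, 3, 0, 2]) ok (by norm_num) (by norm_num) (by decide +kernel) (by decide +kernel)

theorem orb13 : MulAction.orbit (genW (sig T) W0) 13 = Set.Ico 13 (13 + 72) ∧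
    (MulAction.orbit (genW (sig T) W0) 13).ncard = 72 :=
  orbit_ivl (sch := [2, 3, 0, 1, 3, 2, 3, 0, 3]) ok (by norm_num) (by norm_num) (by decide +kernel) (by decide +kernel)

theorem orb85 : MulAction.orbit (genW (sig T) W0) 85 = Set.Ico 85 (85 + 90) ∧
    (MulAction.orbit (genW (sig T) W0) 85).ncard = 90 :=
  orbit_ivl (sch := [1, 2, 3, 0, 2, 1, 3, 0, 3, 0]) ok (by norm_num) (by norm_num) (by decide +kernel) (by decide +kernel)

namespace Col

noncomputable def t0 : Tr := (Tr.leaf (nat_lit 0xfffffffffffffffffffff000fffffffffffffffffffff000fffffffffffffffffffff000fffffffffffffffffffff000fffffffffffffffffffff8741d5135014035fff1bafff8340f40d4fffffffff0140998140b4039ffffffffffff014813153113ffffff0971370134b0072010ffffffffffff0324901f0ffffff010ffffff0b5470210114010ffffff1140d4450170fffffffff0100f3fff4300b0ffffffffffff010092410050032fffffffff036010000fff0f02302501900d0070))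

noncomputable def T : Tr := t0

def RT : List (List (List Nat)) := [
  [[nat_lit 0],
   [nat_lit 5, nat_lit 1],
   [nat_lit 1, nat_lit 4, nat_lit 0, nat_lit 3, nat_lit 1],
   [nat_lit 3, nat_lit 1, nat_lit 0, nat_lit 1, nat_lit 4]],
  [[nat_lit 0, nat_lit 5],
   [nat_lit 1],
   [nat_lit 2, nat_lit 1, nat_lit 2],
   [nat_lit 0, nat_lit 1, nat_lit 5, nat_lit 0, nat_lit 1, nat_lit 5, nat_lit 2, nat_lit 0, nat_lit 5, nat_lit 2],
   [nat_lit 4, nat_lit 1, nat_lit 4, nat_lit 2, nat_lit 4, nat_lit 0, nat_lit 4]],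
  [[nat_lit 0, nat_lit 2, nat_lit 0, nat_lit 2, nat_lit 0],
   [nat_lit 2]],
  [[nat_lit 4, nat_lit 4, nat_lit 4]],
  [[nat_lit 4]],
  [[nat_lit 0, nat_lit 1],
   [nat_lit 5],
   [nat_lit 4, nat_lit 5, nat_lit 4, nat_lit 5, nat_lit 4]],
  [[nat_lit 1, nat_lit 5, nat_lit 1, nat_lit 5, nat_lit 1, nat_lit 5],
   [nat_lit 1, nat_lit 1],
   [nat_lit 0, nat_lit 1, nat_lit 0, nat_lit 1, nat_lit 0, nat_lit 1, nat_lit 0, nat_lit 1, nat_lit 0, nat_lit 1],
   [nat_lit 2, nat_lit 0, nat_lit 1, nat_lit 0, nat_lit 2, nat_lit 1, nat_lit 0, nat_lit 1, nat_lit 0, nat_lit 2, nat_lit 0, nat_lit 1, nat_lit 0, nat_lit 1, nat_lit 0],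
   [nat_lit 2, nat_lit 2],
   [nat_lit 5, nat_lit 0, nat_lit 1],
   [nat_lit 5, nat_lit 0, nat_lit 5, nat_lit 4, nat_lit 1, nat_lit 3, nat_lit 5, nat_lit 4, nat_lit 1, nat_lit 3, nat_lit 0],
   [nat_lit 4, nat_lit 3],
   [nat_lit 3, nat_lit 4]]]

def HT : List (List (Nat × Nat × Nat)) := [
  [(0, 1, 0), (1, 0, 0), (0, 12, 1), (0, 12, 4)],
  [(1, 0, 2), (0, 2, 0), (0, 8, 1), (1, 18, 10), (1, 14, 2)],
  [(0, 9, 0), (0, 3, 0)],
  [(1, 11, 0)],
  [(0, 4, 1)],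
  [(0, 0, 0), (0, 6, 0), (1, 16, 1)],
  [(0, 15, 0), (0, 2, 0), (0, 7, 0), (1, 10, 0), (0, 3, 0), (0, 0, 2), (1, 19, 0), (0, 4, 1), (0, 4, 0)]]

def R : List (List Nat) :=
  [[0, 1, 5],
   [0, 0],
   [1, 1],
   [2, 2],
   [3, 4],
   [4, 3],
   [5, 5],
   [0, 1, 0, 1, 0, 1, 0, 1, 0, 1],
   [1, 2, 1, 2],
   [0, 2, 0, 2, 0, 2],
   [0, 1, 0, 1, 0, 2, 0, 1, 0, 1, 2, 0, 1, 0, 2],
   [3, 3, 3, 3],
   [0, 1, 4, 0, 3, 1],
   [2, 3, 2, 4, 2, 3, 3],
   [0, 3, 2, 3, 1, 3, 1, 3],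
   [1, 5, 1, 5, 1, 5],
   [3, 5, 3, 5, 3, 5],
   [0, 5, 2, 4, 2, 5, 2, 3, 2, 5],
   [0, 1, 2, 5, 0, 2, 5, 1, 0, 5, 1],
   [0, 4, 1, 3, 5, 4, 1, 3, 5, 0, 5]]

def W : List (List Nat) := []

noncomputable def P : Par := ⟨T, (nat_lit 4), (nat_lit 15), (nat_lit 96), (nat_lit 12), (nat_lit 4095), (nat_lit 5), (nat_lit 31), (nat_lit 6), (nat_lit 17), (nat_lit 32), (nat_lit 0x398a320820), RT⟩

noncomputable def J0 : List Nat := [
  nat_lit 0x470020c4960043893c0087102980106240c3680020c410419400106211a500030625b0020c6104104109404a00028b1067000196308208225f0044c4c60041899c0087104184ce00438b5975002c635825000a78820c20823a800df1940010e20820830ca630018e309782f05e000a3c6f4e000143104120bc05e00bc00079e30820820e60008317cd4800052c6104105c400438866033000145883a8ac0000e988358000c3186b0000296206a3506a000b6c41041041041041041041041041041041041041041041041041041]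

theorem c0 : chk T (nat_lit 4) (nat_lit 15) (nat_lit 96) (nat_lit 12) (nat_lit 4095) (nat_lit 5) (nat_lit 31) (nat_lit 6) (nat_lit 17) (nat_lit 32) (nat_lit 0x398a320820) (nat_lit 4) (nat_lit 15) RT (nat_lit 16) J0 (nat_lit 16) = true := by
  decide +kernel

theorem r0 : P.RowsOK 16 32 := chk_sound P _ _ _ J0 _ _ (by decide +kernel) c0

theorem index.{u} : IndexLe.{u} 6 R W 1 :=
  indexLe_of_cert P HT (by decide +kernel)
    (show P.RowsOK 16 32 from r0)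

end Col

theorem card : Finite G ∧ Nat.card G = 126000 ∧ Function.Injective phi :=
  rep.card_eq up low

def primT : List (List Nat × List Nat) :=
  [([5, 2, 5], [0, 1, 4, 2, 4, 0, 4, 1, 2, 3, 4, 0, 1, 3, 2, 1]),
   ([5, 0, 3, 5], [0, 1, 2, 4, 1, 3, 4, 1, 0, 2, 4, 1]),
   ([5], [0, 1, 2, 3, 4, 0, 1, 4, 2, 3, 4, 0, 1])]

theorem prim_0 : Nat.beq (grow T ([5, 2, 5] :: W0) [0, 1, 4, 2, 4, 0, 4, 1, 2, 3, 4, 0, 1, 3, 2, 1] (pt (nat_lit 0))) (ivl (nat_lit 0) (nat_lit 175)) = true := by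
  decide +kernel

theorem prim_1 : Nat.beq (grow T ([5, 0, 3, 5] :: W0) [0, 1, 2, 4, 1, 3, 4, 1, 0, 2, 4, 1] (pt (nat_lit 0))) (ivl (nat_lit 0) (nat_lit 175)) = true := by
  decide +kernel

theorem prim_2 : Nat.beq (grow T ([5] :: W0) [0, 1, 2, 3, 4, 0, 1, 4, 2, 3, 4, 0, 1] (pt (nat_lit 0))) (ivl (nat_lit 0) (nat_lit 175)) = true := by
  decide +kernel

theorem prim : Prim (gen (sig T) 6) 0 :=
  prim_of_cert (W := W0) (ts := primT) (sch := [0, 3, 1, 2, 3, 0, 2, 1, 3, 2]) ok (ok.genW_le _) (by norm_num) (genW_le_gen (by decide +kernel)) (by decide +kernel)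
    (fun t ht => ev_mem fun x hx => letter_mem_gen ((by decide +kernel : ∀ t ∈ primT, ∀ x ∈ t.1, x < 6) t ht x hx)) (by decide +kernel)
    (by simp only [primT, List.forall_mem_cons]; exact ⟨prim_0, prim_1, prim_2, by simp⟩)

def XP : List (List Nat) := [[0, 1, 5, 0, 1, 5, 0, 1, 5, 0, 1, 5, 0, 1, 5, 0, 1, 5, 0, 1, 5]]

theorem satX : Sat (sig T) XP :=
  sat_of_relsP ok (by norm_num) (show relsP (nat_lit 175) (nat_lit 8) (nat_lit 0) (nat_lit 8) T XP = true by decide +kernel)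

theorem simple : IsSimpleGroup G :=
  rep.simple (m := 720) (p := 7) (X := [[0, 1, 5]]) card.2.2 (by norm_num) (by norm_num) trans prim card.2.1 (by norm_num) pres.sat
    Col.index (by decide +kernel) (by decide +kernel) (satX.mono (by decide +kernel))


end Cfsg.Agent.LeU.U35
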