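import Cfsg.Agent.LeU.U35.Pres
import Cfsg.Agent.LeU.U35.Top

set_option autoImplicit false
set_option maxRecDepth 100000

namespace Cfsg.Agent.LeU.U35
open Cfsg.Agent.Comp

namespace Tk3

noncomputable def t0 : Tr := (Tr.leaf (nat_lit 0x1fffff800fffffc007ffffe003fffff001fffff800fffffc007ffffe003fffff001fffff800fffffc007ffffe003fffff001fffff800fffffe087ff020003ff831))

noncomputable def T : Tr := t0

def RT : List (List (List Nat)) := [
  [],
  []]

def HT : List (List (Nat × Nat × Nat)) := [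
  [],
  []]

def R : List (List Nat) :=
  [[0, 0]]

def W : List (List Nat) := []

noncomputable def P : Par := ⟨T, (nat_lit 4), (nat_lit 15), (nat_lit 33), (nat_lit 11), (nat_lit 2047), (nat_lit 5), (nat_lit 31), (nat_lit 1), (nat_lit 18), (nat_lit 32), (nat_lit 0x820), RT⟩

noncomputable def J0 : List Nat := [
  nat_lit 0x69249249249249249249249]

theorem c0 : chk T (nat_lit 4) (nat_lit 15) (nat_lit 33) (nat_lit 11) (nat_lit 2047) (nat_lit 5) (nat_lit 31) (nat_lit 1) (nat_lit 18) (nat_lit 32) (nat_lit 0x820) (nat_lit 1) (nat_lit 1) RT (nat_lit 16) J0 (nat_lit 16) = true := by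
  decide +kernel

theorem r0 : P.RowsOK 16 32 := chk_sound P _ _ _ J0 _ _ (by decide +kernel) c0

theorem index.{u} : IndexLe.{u} 1 R W 2 :=
  indexLe_of_cert P HT (by decide +kernel)
    (show P.RowsOK 16 32 from r0)

end Tk3

theorem upK_3 : CardLe (genW s [[0]]) 2 :=
  CardLe.tc (V' := []) (n := 2) (m := 1) [0] Tk3.index pres.sat (by decide +kernel) (by decide +kernel) (by decide +kernel) (cardLe_nil s)

namespace Tk2

noncomputable def t0 : Tr := (Tr.leaf (nat_lit 0x7fffffffff0007fffffffff0007fffffffff0007fffffffff0007fffffffff0007fffffffff0007fffffffff0007fffffffff0007fffffffff0007fffffffff0007fffffffff809fffc0a80136197ffc024034408fffc0660112187ffc0200320007ffc062030))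

noncomputable def T : Tr := t0

def RT : List (List (List Nat)) := [
  [[nat_lit 3]],
  [[nat_lit 0, nat_lit 1, nat_lit 0, nat_lit 1, nat_lit 0, nat_lit 1, nat_lit 0, nat_lit 1, nat_lit 0]],
  []]

def HT : List (List (Nat × Nat × Nat)) := [
  [(2, 0, 0)],
  [(0, 2, 0)],
  []]

def R : List (List Nat) :=
  [[0, 0],
   [1, 1],
   [0, 1, 0, 1, 0, 1, 0, 1, 0, 1]]

def W : List (List Nat) := [[0]]

noncomputable def P : Par := ⟨T, (nat_lit 4), (nat_lit 15), (nat_lit 52), (nat_lit 13), (nat_lit 8191), (nat_lit 5), (nat_lit 31), (nat_lit 2), (nat_lit 21), (nat_lit 32), (nat_lit 0x18820), RT⟩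

noncomputable def J0 : List Nat := [
  nat_lit 0x13412464124661111111111111111111111111111111111]

theorem c0 : chk T (nat_lit 4) (nat_lit 15) (nat_lit 52) (nat_lit 13) (nat_lit 8191) (nat_lit 5) (nat_lit 31) (nat_lit 2) (nat_lit 21) (nat_lit 32) (nat_lit 0x18820) (nat_lit 2) (nat_lit 3) RT (nat_lit 16) J0 (nat_lit 16) = true := by
  decide +kernel

theorem r0 : P.RowsOK 16 32 := chk_sound P _ _ _ J0 _ _ (by decide +kernel) c0

theorem index.{u} : IndexLe.{u} 2 R W 5 :=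
  indexLe_of_cert P HT (by decide +kernel)
    (show P.RowsOK 16 32 from r0)

end Tk2

theorem upK_2 : CardLe (genW s [[0], [1]]) 10 :=
  CardLe.tc (V' := [[0]]) (n := 5) (m := 2) [0, 1] Tk2.index pres.sat (by decide +kernel) (by decide +kernel) (by decide +kernel) upK_3

namespace Tk1

noncomputable def t0 : Tr := (Tr.leaf (nat_lit 0x7ffffffffffff8003ffffffffffffc001ffffffffffffe000fffffffffffff0007ffffffffffff8003ffffffffffffc001ffffffffffffe000fffffffffffff0007ffffffffffff8003ffffffffffffe869fff04a00500eb013fff82d406a0136197ffc0e601201a2047ffe05201980448a1fff0080144064000fff80c4060030))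

noncomputable def T : Tr := t0

def RT : List (List (List Nat)) := [
  [[nat_lit 4],
   [nat_lit 1, nat_lit 0, nat_lit 1, nat_lit 0, nat_lit 1, nat_lit 0, nat_lit 1, nat_lit 0, nat_lit 1]],
  [[nat_lit 4],
   [nat_lit 2, nat_lit 1, nat_lit 2]],
  [[nat_lit 0, nat_lit 2, nat_lit 0, nat_lit 2, nat_lit 0],
   [nat_lit 1, nat_lit 2, nat_lit 1],
   [nat_lit 0, nat_lit 1, nat_lit 0, nat_lit 1, nat_lit 0, nat_lit 2, nat_lit 0, nat_lit 1, nat_lit 0, nat_lit 1, nat_lit 2, nat_lit 0, nat_lit 1, nat_lit 0]],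
  []]

def HT : List (List (Nat × Nat × Nat)) := [
  [(2, 0, 0), (0, 3, 1)],
  [(2, 1, 0), (0, 4, 1)],
  [(0, 5, 0), (0, 4, 0), (0, 6, 0)],
  []]

def R : List (List Nat) :=
  [[0, 0],
   [1, 1],
   [2, 2],
   [0, 1, 0, 1, 0, 1, 0, 1, 0, 1],
   [1, 2, 1, 2],
   [0, 2, 0, 2, 0, 2],
   [0, 1, 0, 1, 0, 2, 0, 1, 0, 1, 2, 0, 1, 0, 2]]

def W : List (List Nat) := [[0],
   [1]]

noncomputable def P : Par := ⟨T, (nat_lit 4), (nat_lit 15), (nat_lit 65), (nat_lit 13), (nat_lit 8191), (nat_lit 5), (nat_lit 31), (nat_lit 3), (nat_lit 22), (nat_lit 32), (nat_lit 0x418820), RT⟩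

noncomputable def J0 : List Nat := [
  nat_lit 0x46400119010e21884111618801718108421084210842108421084210842108421084210842108421]

theorem c0 : chk T (nat_lit 4) (nat_lit 15) (nat_lit 65) (nat_lit 13) (nat_lit 8191) (nat_lit 5) (nat_lit 31) (nat_lit 3) (nat_lit 22) (nat_lit 32) (nat_lit 0x418820) (nat_lit 3) (nat_lit 7) RT (nat_lit 16) J0 (nat_lit 16) = true := by
  decide +kernel

theorem r0 : P.RowsOK 16 32 := chk_sound P _ _ _ J0 _ _ (by decide +kernel) c0

theorem index.{u} : IndexLe.{u} 3 R W 6 :=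
  indexLe_of_cert P HT (by decide +kernel)
    (show P.RowsOK 16 32 from r0)

end Tk1

theorem upK_1 : CardLe (genW s [[0], [1], [2]]) 60 :=
  CardLe.tc (V' := [[0], [1]]) (n := 6) (m := 10) [0, 1, 2] Tk1.index pres.sat (by decide +kernel) (by decide +kernel) (by decide +kernel) upK_2

namespace Tk0

noncomputable def t0 : Tr := (Tr.leaf (nat_lit 0x7ffffffffffffffffffe000fffffffffffffffffffd8e9fff00a7fffffe095fffa0c81e5fffffffffc0240dc83bfffc02e29713d8b6c470c76fff80580ac17911c0a65927fff0fa004c33421513d31cfffe01311a04d44b425b619fffc4f603b0eb804c52c852fff81e807401209b0add0e3fff00881482b023905aa0c7ffe21810c87c4022054408fffc0720380d980dc022490fff81d402003608901488e1fff00800d43a80340198003ffe03201880c0060030))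

noncomputable def T : Tr := t0

def RT : List (List (List Nat)) := [
  [[nat_lit 6],
   [nat_lit 1, nat_lit 4, nat_lit 0, nat_lit 3, nat_lit 1],
   [nat_lit 3, nat_lit 1, nat_lit 0, nat_lit 1, nat_lit 4],
   [nat_lit 4, nat_lit 1, nat_lit 4, nat_lit 1, nat_lit 4, nat_lit 2, nat_lit 4]],
  [[nat_lit 6],
   [nat_lit 4, nat_lit 1, nat_lit 4, nat_lit 2, nat_lit 4, nat_lit 0, nat_lit 4],
   [nat_lit 1],
   [nat_lit 2, nat_lit 1, nat_lit 2],
   [nat_lit 4, nat_lit 2, nat_lit 4, nat_lit 0, nat_lit 4, nat_lit 1, nat_lit 4],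
   [nat_lit 0, nat_lit 1, nat_lit 4, nat_lit 0, nat_lit 3]],
  [[nat_lit 6],
   [nat_lit 4, nat_lit 0, nat_lit 4, nat_lit 1, nat_lit 4, nat_lit 1, nat_lit 4],
   [nat_lit 3, nat_lit 2, nat_lit 4, nat_lit 2, nat_lit 4, nat_lit 4],
   [nat_lit 4, nat_lit 2, nat_lit 4, nat_lit 4, nat_lit 2, nat_lit 3],
   [nat_lit 1, nat_lit 2, nat_lit 1],
   [nat_lit 1, nat_lit 0, nat_lit 1, nat_lit 0, nat_lit 2, nat_lit 0, nat_lit 1, nat_lit 0, nat_lit 1, nat_lit 0, nat_lit 2, nat_lit 0, nat_lit 1, nat_lit 0],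
   [nat_lit 0, nat_lit 2, nat_lit 0, nat_lit 2, nat_lit 0]],
  [[nat_lit 4, nat_lit 4, nat_lit 4],
   [nat_lit 4, nat_lit 2, nat_lit 3, nat_lit 2, nat_lit 4, nat_lit 2]],
  [[nat_lit 2, nat_lit 4, nat_lit 2, nat_lit 3, nat_lit 3, nat_lit 2],
   [nat_lit 2, nat_lit 4, nat_lit 2, nat_lit 4, nat_lit 4, nat_lit 2],
   [nat_lit 1, nat_lit 0, nat_lit 1, nat_lit 4, nat_lit 0]],
  [[nat_lit 0, nat_lit 1, nat_lit 0, nat_lit 1, nat_lit 0, nat_lit 1, nat_lit 0, nat_lit 1, nat_lit 0, nat_lit 1]]]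

def HT : List (List (Nat × Nat × Nat)) := [
  [(2, 0, 0), (0, 10, 1), (0, 10, 4), (1, 12, 0)],
  [(2, 1, 0), (1, 12, 2), (0, 1, 0), (0, 6, 1), (1, 12, 4), (0, 10, 0)],
  [(2, 2, 0), (1, 12, 6), (1, 11, 3), (1, 11, 5), (0, 6, 0), (1, 8, 5), (0, 7, 0)],
  [(1, 9, 0), (1, 11, 1)],
  [(0, 11, 2), (1, 11, 4), (0, 10, 5)],
  [(0, 5, 0)]]

def R : List (List Nat) :=
  [[0, 0],
   [1, 1],
   [2, 2],
   [3, 4],
   [4, 3],
   [0, 1, 0, 1, 0, 1, 0, 1, 0, 1],
   [1, 2, 1, 2],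
   [0, 2, 0, 2, 0, 2],
   [0, 1, 0, 1, 0, 2, 0, 1, 0, 1, 2, 0, 1, 0, 2],
   [3, 3, 3, 3],
   [0, 1, 4, 0, 3, 1],
   [2, 3, 2, 4, 2, 3, 3],
   [0, 3, 2, 3, 1, 3, 1, 3]]

def W : List (List Nat) := [[0],
   [1],
   [2]]

noncomputable def P : Par := ⟨T, (nat_lit 4), (nat_lit 15), (nat_lit 91), (nat_lit 13), (nat_lit 8191), (nat_lit 5), (nat_lit 31), (nat_lit 5), (nat_lit 28), (nat_lit 32), (nat_lit 0x18a320820), RT⟩

noncomputable def J0 : List Nat := [
  nat_lit 0x10c40010c40010c400100708414398011621080308280027080182760ec00a3880142082c20009c2c08080184209b0424082a1c20abc0420f2000051c61041043901c8000a0c413041841041041041041041041]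

theorem c0 : chk T (nat_lit 4) (nat_lit 15) (nat_lit 91) (nat_lit 13) (nat_lit 8191) (nat_lit 5) (nat_lit 31) (nat_lit 5) (nat_lit 28) (nat_lit 32) (nat_lit 0x18a320820) (nat_lit 4) (nat_lit 15) RT (nat_lit 16) J0 (nat_lit 16) = true := by
  decide +kernel

theorem r0 : P.RowsOK 16 32 := chk_sound P _ _ _ J0 _ _ (by decide +kernel) c0

theorem index.{u} : IndexLe.{u} 5 R W 12 :=
  indexLe_of_cert P HT (by decide +kernel)
    (show P.RowsOK 16 32 from r0)

end Tk0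

theorem upK : CardLe (genW s [[0], [1], [2], [3], [4]]) 720 :=
  CardLe.tc (V' := [[0], [1], [2]]) (n := 12) (m := 60) [0, 1, 2, 3, 4] Tk0.index pres.sat (by decide +kernel) (by decide +kernel) (by decide +kernel) upK_1

theorem up : CardLe (gen s 6) 126000 := upK.step (Top.index _ s pres.sat)

end Cfsg.Agent.LeU.U35
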